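import Mathlib

set_option autoImplicit false
universe u v

open TensorProduct

namespace Groth.Agent.Lib.Helper5.GrGen

section general
variable {A : Type u} [CommRing A]

/-- A finite module all of whose fibres at maximal ideals vanish is zero. -/
theorem subsingleton_of_forall_maximal (Q : Type v) [AddCommGroup Q] [Module A Q] [Module.Finite A Q]
    (h : ∀ (m : Ideal A) [m.IsMaximal], Subsingleton (m.ResidueField ⊗[A] Q)) : Subsingleton Q := by
  rw [← Module.support_eq_empty_iff (R := A), Set.eq_empty_iff_forall_notMem]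
  intro p hp
  obtain ⟨m, hm, hpm⟩ := Ideal.exists_le_maximal p.asIdeal p.2.ne_top
  have h1 : (⟨m, hm.isPrime⟩ : PrimeSpectrum A) ∈ Module.support A Q :=
    Module.mem_support_mono (p := p) (q := ⟨m, hm.isPrime⟩) hpm hp
  rw [Module.mem_support_iff_nontrivial_residueField_tensorProduct] at h1
  haveI := h m
  exact not_subsingleton _ ‹_›

/-- A finite module all of whose geometric fibres vanish is zero. -/
theorem subsingleton_of_forall_algClosed (Q : Type v) [AddCommGroup Q] [Module A Q] [Module.Finite A Q]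
    (h : ∀ (k : Type u) [Field k] [IsAlgClosed k] [Algebra A k], Subsingleton (k ⊗[A] Q)) :
    Subsingleton Q := by
  rw [← Module.support_eq_empty_iff (R := A), Set.eq_empty_iff_forall_notMem]
  intro p hp
  rw [Module.mem_support_iff_nontrivial_residueField_tensorProduct] at hp
  let κ := p.asIdeal.ResidueField
  let k := AlgebraicClosure κ
  have e := TensorProduct.AlgebraTensorModule.cancelBaseChange A κ κ k Q
  have h1 : Nontrivial (k ⊗[κ] (κ ⊗[A] Q)) :=
    (Module.FaithfullyFlat.nontrivial_tensorProduct_iff_right κ k).2 hp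
  haveI := h k
  have h2 : Subsingleton (k ⊗[κ] (κ ⊗[A] Q)) := e.toEquiv.subsingleton
  exact not_subsingleton _ h2

end general

section graded
variable {A : Type u} [CommRing A] {B : Type u} [CommRing B] [Algebra A B]
    (𝒜 : ℕ → Submodule A B) [GradedAlgebra 𝒜]

theorem pow_le (j : ℕ) : (𝒜 1) ^ j ≤ 𝒜 j := by
  induction j with
  | zero =>
    rw [pow_zero, Submodule.one_le]
    exact SetLike.GradedOne.one_mem
  | succ j ih =>
    rw [pow_succ]
    refine (mul_le_mul' ih le_rfl).trans ?_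
    rw [Submodule.mul_le]
    intro x hx y hy
    exact SetLike.mul_mem_graded hx hy

theorem pow_le_adjoin (j : ℕ) :
    (𝒜 1) ^ j ≤ Subalgebra.toSubmodule (Algebra.adjoin A (𝒜 1 : Set B)) := by
  induction j with
  | zero =>
    rw [pow_zero, Submodule.one_le]
    exact Subalgebra.one_mem _
  | succ j ih =>
    rw [pow_succ, Submodule.mul_le]
    intro x hx y hy
    exact Subalgebra.mul_mem _ (ih hx) (Algebra.subset_adjoin hy)

/-- the projection onto the degree `m` part. -/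
noncomputable def pr (m : ℕ) : B →ₗ[A] 𝒜 m :=
  (DirectSum.component A ℕ (fun i => 𝒜 i) m) ∘ₗ (DirectSum.decomposeLinearEquiv 𝒜).toLinearMap

theorem pr_of_mem_same {m : ℕ} {b : B} (hb : b ∈ 𝒜 m) : (pr 𝒜 m b : B) = b := by
  simp only [pr, LinearMap.comp_apply, LinearEquiv.coe_coe, DirectSum.decomposeLinearEquiv_apply]
  exact DirectSum.decompose_of_mem_same 𝒜 hb

theorem pr_of_mem_ne {m j : ℕ} {b : B} (hb : b ∈ 𝒜 j) (hj : j ≠ m) : pr 𝒜 m b = 0 := by
  simp only [pr, LinearMap.comp_apply, LinearEquiv.coe_coe, DirectSum.decomposeLinearEquiv_apply]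
  exact Subtype.ext (DirectSum.decompose_of_mem_ne 𝒜 hb hj)

theorem pr_subtype (m : ℕ) (y : 𝒜 m) : pr 𝒜 m (y : B) = y :=
  Subtype.ext (pr_of_mem_same 𝒜 y.2)

theorem pr_mem {m j : ℕ} {b : B} (hb : b ∈ (𝒜 1) ^ j) :
    (pr 𝒜 m b : B) ∈ (𝒜 1) ^ m := by
  by_cases hj : j = m
  · subst hj
    rw [pr_of_mem_same 𝒜 (pow_le 𝒜 j hb)]
    exact hb
  · rw [pr_of_mem_ne 𝒜 (pow_le 𝒜 j hb) hj]
    exact Submodule.zero_mem _

variable (k : Type u) [Field k] [Algebra A k]

theorem closure_subset (t : k ⊗[A] B)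
    (ht : t ∈ Submonoid.closure
      ((Algebra.TensorProduct.includeRight : B →ₐ[A] k ⊗[A] B) '' (𝒜 1 : Set B))) :
    ∃ j : ℕ, ∃ b ∈ (𝒜 1) ^ j, t = (1 : k) ⊗ₜ[A] b := by
  induction ht using Submonoid.closure_induction with
  | mem x hx =>
    obtain ⟨b, hb, rfl⟩ := hx
    exact ⟨1, b, by rw [pow_one]; exact hb, rfl⟩
  | one => exact ⟨0, 1, by rw [pow_zero]; exact Submodule.one_le.1 le_rfl, rfl⟩
  | mul x y _ _ hx hy =>
    obtain ⟨j, b, hb, rfl⟩ := hx
    obtain ⟨j', b', hb', rfl⟩ := hy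
    refine ⟨j + j', b * b', ?_, ?_⟩
    · rw [pow_add]
      exact Submodule.mul_mem_mul hb hb'
    · rw [Algebra.TensorProduct.tmul_mul_tmul, one_mul]

theorem range_eq_top
    (hgen : Algebra.adjoin k
      ((Algebra.TensorProduct.includeRight : B →ₐ[A] k ⊗[A] B) '' (𝒜 1 : Set B)) = ⊤)
    (m : ℕ) (z : k ⊗[A] (𝒜 m)) :
    z ∈ LinearMap.range
      ((((𝒜 1) ^ m).comap (𝒜 m).subtype).subtype.baseChange k) := by
  set N' := ((𝒜 1) ^ m).comap (𝒜 m).subtype with hN'
  have hz : z = (pr 𝒜 m).baseChange k ((𝒜 m).subtype.baseChange k z) := by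
    rw [← LinearMap.comp_apply, ← LinearMap.baseChange_comp]
    have : pr 𝒜 m ∘ₗ (𝒜 m).subtype = LinearMap.id := by
      ext y
      simp [pr_subtype]
    rw [this, LinearMap.baseChange_id, LinearMap.id_apply]
  have hw : (𝒜 m).subtype.baseChange k z ∈ (⊤ : Subalgebra k (k ⊗[A] B)) := trivial
  rw [← hgen, ← Subalgebra.mem_toSubmodule, Algebra.adjoin_eq_span] at hw
  have key : Submodule.span k (Submonoid.closure
      ((Algebra.TensorProduct.includeRight : B →ₐ[A] k ⊗[A] B) '' (𝒜 1 : Set B)) : Set (k ⊗[A] B)) ≤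
      (LinearMap.range (N'.subtype.baseChange k)).comap ((pr 𝒜 m).baseChange k) := by
    rw [Submodule.span_le]
    intro t ht
    obtain ⟨j, b, hb, rfl⟩ := closure_subset 𝒜 k t ht
    rw [SetLike.mem_coe, Submodule.mem_comap, LinearMap.baseChange_tmul]
    refine ⟨(1 : k) ⊗ₜ[A] ⟨pr 𝒜 m b, ?_⟩, ?_⟩
    · rw [hN', Submodule.mem_comap]
      exact pr_mem 𝒜 hb
    · rw [LinearMap.baseChange_tmul]
      rfl
  rw [hz]
  exact key hw

theorem quot_tensor_subsingleton
    (hgen : Algebra.adjoin k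
      ((Algebra.TensorProduct.includeRight : B →ₐ[A] k ⊗[A] B) '' (𝒜 1 : Set B)) = ⊤)
    (m : ℕ) :
    Subsingleton (k ⊗[A] ((𝒜 m) ⧸ ((𝒜 1) ^ m).comap (𝒜 m).subtype)) := by
  set N' := ((𝒜 1) ^ m).comap (𝒜 m).subtype with hN'
  have hs : Function.Surjective (N'.mkQ.baseChange k) := by
    have := LinearMap.lTensor_surjective k (Submodule.mkQ_surjective N')
    intro y
    obtain ⟨x, hx⟩ := this y
    exact ⟨x, hx⟩
  refine ⟨fun x y => ?_⟩
  have h0 : ∀ x : k ⊗[A] ((𝒜 m) ⧸ N'), x = 0 := by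
    intro x
    obtain ⟨z, rfl⟩ := hs x
    obtain ⟨u, rfl⟩ := range_eq_top 𝒜 k hgen m z
    rw [← LinearMap.comp_apply, ← LinearMap.baseChange_comp]
    have : N'.mkQ ∘ₗ N'.subtype = 0 := by
      ext y
      simp
    rw [this, LinearMap.baseChange_zero, LinearMap.zero_apply]
  rw [h0 x, h0 y]

end graded

theorem main
    (A : Type u) [CommRing A] (B : Type u) [CommRing B] [Algebra A B]
    (𝒜 : ℕ → Submodule A B) [GradedAlgebra 𝒜]
    (hfin : ∀ m : ℕ, Module.Finite A (𝒜 m))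
    (hgen : ∀ (k : Type u) [Field k] [IsAlgClosed k] [Algebra A k],
      Algebra.adjoin k ((Algebra.TensorProduct.includeRight : B →ₐ[A] k ⊗[A] B) '' (𝒜 1 : Set B)) = ⊤) :
    Algebra.adjoin A (𝒜 1 : Set B) = ⊤ := by
  have hle : ∀ m, 𝒜 m ≤ (𝒜 1) ^ m := by
    intro m
    haveI := hfin m
    have hsub : Subsingleton ((𝒜 m) ⧸ ((𝒜 1) ^ m).comap (𝒜 m).subtype) := by
      apply subsingleton_of_forall_algClosed (A := A)
      intro k _ _ _
      exact quot_tensor_subsingleton 𝒜 k (hgen k) m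
    rw [Submodule.Quotient.subsingleton_iff] at hsub
    intro b hb
    have : (⟨b, hb⟩ : 𝒜 m) ∈ ((𝒜 1) ^ m).comap (𝒜 m).subtype := by
      rw [hsub]; trivial
    exact this
  rw [eq_top_iff]
  intro b _
  classical
  rw [← DirectSum.sum_support_decompose 𝒜 b]
  refine Subalgebra.sum_mem _ fun i _ => ?_
  exact pow_le_adjoin 𝒜 i (hle i (SetLike.coe_mem _))

end Groth.Agent.Lib.Helper5.GrGen
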